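import Groth.Agent.Fin57.FunctionField
import Groth.Agent.Crv77.FunDeg
import Groth.Agent.FlatCrit65.GenFlat
import Groth.Agent.Var76.VarDim

/-!
Generic degree of a dominant morphism of varieties of the same dimension.
-/

set_option autoImplicit false
set_option maxSynthPendingDepth 6
set_option linter.style.haveILetI false
set_option backward.isDefEq.respectTransparency.types false

noncomputable section

universe u

open CategoryTheory Limits AlgebraicGeometry TopologicalSpace

namespace Groth.Agent.GenDeg7

variable {X Y Z : Scheme.{u}}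

theorem fdeg_comp (f : X ⟶ Y) (g : Y ⟶ Z) [LocallyOfFiniteType f] [LocallyOfFiniteType g] (x : X) :
    E4O.fdeg (f ≫ g) x = E4O.fdeg g (f x) + E4O.fdeg f x := by
  letI a1 : Algebra (Z.residueField (g (f x))) (Y.residueField (f x)) := (g.residueFieldMap (f x)).hom.toAlgebra
  letI a2 : Algebra (Y.residueField (f x)) (X.residueField x) := (f.residueFieldMap x).hom.toAlgebra
  letI a3 : Algebra (Z.residueField (g (f x))) (X.residueField x) := ((f ≫ g).residueFieldMap x).hom.toAlgebra
  haveI : IsScalarTower (Z.residueField (g (f x))) (Y.residueField (f x)) (X.residueField x) :=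
    IsScalarTower.of_algebraMap_eq fun r => by
      show ((f ≫ g).residueFieldMap x).hom r = (f.residueFieldMap x).hom ((g.residueFieldMap (f x)).hom r)
      rw [Scheme.residueFieldMap_comp]
      rfl
  have h1 := Cyc90.trdeg_residueField_eq_fdeg f x
  have h2 := Cyc90.trdeg_residueField_eq_fdeg g (f x)
  have h3 := Cyc90.trdeg_residueField_eq_fdeg (f ≫ g) x
  have h := trdeg_add_eq (Z.residueField (g (f x))) (Y.residueField (f x)) (A := X.residueField x)
  rw [h1, h2] at h
  have h' := h.trans h3
  exact_mod_cast h'.symm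

theorem residueDegree_comp_left (j : X ⟶ Y) [IsOpenImmersion j] (f : Y ⟶ Z) (x : X) :
    (j ≫ f).residueDegree x = f.residueDegree (j x) := by
  let e := (asIso (j.residueFieldMap x)).commRingCatIsoToRingEquiv
  letI a1 : Algebra (Z.residueField (f (j x))) (Y.residueField (j x)) := (f.residueFieldMap (j x)).hom.toAlgebra
  letI a2 : Algebra (Z.residueField (f (j x))) (X.residueField x) := ((j ≫ f).residueFieldMap x).hom.toAlgebra
  refine (@Algebra.finrank_eq_of_equiv_equiv (Z.residueField (f (j x))) (Y.residueField (j x)) _ _ a1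
    (Z.residueField (f (j x))) (X.residueField x) _ _ a2 (RingEquiv.refl _) e ?_).symm
  ext r
  show ((j ≫ f).residueFieldMap x).hom r = (j.residueFieldMap x).hom ((f.residueFieldMap (j x)).hom r)
  rw [Scheme.residueFieldMap_comp]
  rfl

theorem residueDegree_comp_right (g : X ⟶ Y) (i : Y ⟶ Z) [IsOpenImmersion i] (x : X) :
    (g ≫ i).residueDegree x = g.residueDegree x := by
  let e := (asIso (i.residueFieldMap (g x))).commRingCatIsoToRingEquiv
  letI a1 : Algebra (Y.residueField (g x)) (X.residueField x) := (g.residueFieldMap x).hom.toAlgebra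
  letI a2 : Algebra (Z.residueField (i (g x))) (X.residueField x) := ((g ≫ i).residueFieldMap x).hom.toAlgebra
  refine (@Algebra.finrank_eq_of_equiv_equiv (Z.residueField (i (g x))) (X.residueField x) _ _ a2
    (Y.residueField (g x)) (X.residueField x) _ _ a1 e (RingEquiv.refl _) ?_)
  ext r
  show (g.residueFieldMap x).hom ((i.residueFieldMap (g x)).hom r) = ((g ≫ i).residueFieldMap x).hom r
  rw [Scheme.residueFieldMap_comp]
  rfl

theorem fdeg_genericPoint_of_subsingleton [IsIntegral X] [Subsingleton Z] (q : X ⟶ Z) :
    E4O.fdeg q (genericPoint X) = ((topologicalKrullDim X).unbotD 0).toNat := by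
  have hset : closure {genericPoint X} ∩ q ⁻¹' {q (genericPoint X)} = Set.univ := by
    rw [genericPoint_spec X |>.def]
    exact Set.eq_univ_of_forall fun x => ⟨trivial, Subsingleton.elim _ _⟩
  rw [E4O.fdeg, hset, (Homeomorph.Set.univ (X : Type u)).isHomeomorph.topologicalKrullDim_eq]

/-- The rank of a finite flat morphism at a point, from the global functions of the fibre. -/
theorem finrank_fibre (g : X ⟶ Y) [IsFinite g] [Flat g] (K : Type u) [Field K] (t : Spec (CommRingCat.of K) ⟶ Y) (p : ↥(Spec (CommRingCat.of K))) :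
    (letI := ((Scheme.ΓSpecIso (CommRingCat.of K)).inv ≫ (pullback.snd g t).appTop).hom.toAlgebra
     Module.finrank K Γ(pullback g t, ⊤)) = Scheme.Hom.finrank g (t p) := by
  let q := pullback.snd g t
  haveI : IsAffine (pullback g t) := isAffine_of_isAffineHom q
  let φ : CommRingCat.of K ⟶ Γ(pullback g t, ⊤) := (Scheme.ΓSpecIso (CommRingCat.of K)).inv ≫ q.appTop
  letI := φ.hom.toAlgebra
  have e : q = (pullback g t).isoSpec.hom ≫ Spec.map φ := by
    rw [Spec.map_comp, ← Category.assoc, Scheme.isoSpec_hom_naturality, Category.assoc,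
      show Spec.map (Scheme.ΓSpecIso (CommRingCat.of K)).inv = (Spec (CommRingCat.of K)).isoSpec.inv by
        rw [Scheme.isoSpec_Spec_inv], Iso.hom_inv_id, Category.comp_id]
  haveI hfin : IsFinite (Spec.map φ) := by
    rw [← MorphismProperty.cancel_left_of_respectsIso (P := @IsFinite) (pullback g t).isoSpec.hom, ← e]
    infer_instance
  haveI hflat : Flat (Spec.map φ) := by
    rw [← MorphismProperty.cancel_left_of_respectsIso (P := @Flat) (pullback g t).isoSpec.hom, ← e]
    infer_instance
  haveI : Module.Finite K Γ(pullback g t, ⊤) := RingHom.finite_algebraMap.1 ((IsFinite.SpecMap_iff φ).1 hfin)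
  have key : Scheme.Hom.finrank (pullback.snd g t) p =
      Module.rankAtStalk (R := K) Γ(pullback g t, ⊤) (show PrimeSpectrum K from p) := by
    rw [show pullback.snd g t = _ from e, Scheme.Hom.finrank_comp_left_of_isIso,
      show Spec.map φ = Spec.map (CommRingCat.ofHom (algebraMap K Γ(pullback g t, ⊤))) from rfl,
      Scheme.Hom.finrank_SpecMap_algebraMap]
  rw [← Scheme.Hom.finrank_pullback_snd g t p]
  refine Eq.trans ?_ key.symm
  have h := congrFun (Module.rankAtStalk_eq_finrank_of_free (R := K) (M := Γ(pullback g t, ⊤)))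
    (show PrimeSpectrum K from p)
  have h0 : ∀ (α : Type u) (n : ℕ) (a : α), (n : α → ℕ) a = n := fun _ _ _ => by simp
  exact (h.trans (h0 _ _ _)).symm

end Groth.Agent.GenDeg7
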