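import Groth.Agent.GenDeg7.Main
import Mathlib.RingTheory.LocalRing.Module
import Mathlib.RingTheory.LocalRing.ResidueField.Basic
import Mathlib.AlgebraicGeometry.Morphisms.Affine

/-!
The fibre rank of a flat affine morphism to an integral affine scheme is at most the generic one.
-/

set_option autoImplicit false
set_option maxSynthPendingDepth 6
set_option linter.style.haveILetI false
set_option backward.isDefEq.respectTransparency.types false

noncomputable section

universe u

open CategoryTheory Limits AlgebraicGeometry TopologicalSpace TensorProduct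

namespace Groth.Agent.GenDeg7

/-- For a flat module over a domain the rank at any point is at most the generic rank. -/
theorem finrank_baseChange_le {A : Type u} [CommRing A] [IsDomain A] (M : Type u) [AddCommGroup M]
    [Module A M] [Module.Flat A M] (K L : Type u) [Field K] [Field L] [Algebra A K] [Algebra A L]
    [FaithfulSMul A L] [Module.Finite L (L ⊗[A] M)] :
    Module.finrank K (K ⊗[A] M) ≤ Module.finrank L (L ⊗[A] M) := by
  let mkK : M →ₗ[A] K ⊗[A] M := TensorProduct.mk A K M 1
  have hspan : Submodule.span K (Set.range mkK) = ⊤ := by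
    refine eq_top_iff.2 fun z _ => ?_
    induction z using TensorProduct.induction_on with
    | zero => exact zero_mem _
    | tmul a m =>
      rw [show a ⊗ₜ[A] m = a • mkK m by simp [mkK, TensorProduct.smul_tmul']]
      exact Submodule.smul_mem _ _ (Submodule.subset_span ⟨m, rfl⟩)
    | add a b ha hb => exact add_mem (ha trivial) (hb trivial)
  obtain ⟨b, hb, hbspan, hbli⟩ := exists_linearIndependent K (Set.range mkK)
  rw [hspan] at hbspan
  choose v hv using fun x : ↥b => hb x.2
  let B : Module.Basis ↥b K (K ⊗[A] M) := Module.Basis.mk hbli (by rw [Subtype.range_coe_subtype, Set.ofPred_mem_eq, hbspan])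
  rw [Module.finrank_eq_nat_card_basis B]
  let p : Ideal A := RingHom.ker (algebraMap A K)
  haveI : p.IsPrime := RingHom.ker_isPrime _
  let Ap := Localization.AtPrime p
  let ψ : Ap →ₐ[A] K := IsLocalization.liftAlgHom (M := p.primeCompl) (f := Algebra.ofId A K)
    fun y => by
      rw [isUnit_iff_ne_zero]
      exact fun h => y.2 (RingHom.mem_ker.2 h)
  letI : Algebra Ap K := ψ.toRingHom.toAlgebra
  haveI : IsScalarTower A Ap K := IsScalarTower.of_algebraMap_eq fun a => (ψ.commutes a).symm
  have hker : ∀ x ∈ IsLocalRing.maximalIdeal Ap, algebraMap Ap K x = 0 := fun x hx => by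
    obtain ⟨⟨a, s⟩, rfl⟩ := IsLocalization.mk'_surjective p.primeCompl x
    rw [IsLocalization.AtPrime.mk'_mem_maximal_iff Ap p] at hx
    have h1 := congrArg (algebraMap Ap K) (IsLocalization.mk'_spec Ap a s)
    rw [map_mul, ← IsScalarTower.algebraMap_apply, ← IsScalarTower.algebraMap_apply,
      RingHom.mem_ker.1 hx] at h1
    exact (mul_eq_zero.1 h1).resolve_right fun h => s.2 (RingHom.mem_ker.2 h)
  let k := IsLocalRing.ResidueField Ap
  letI : Algebra k K := (Ideal.Quotient.lift _ (algebraMap Ap K) hker).toAlgebra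
  haveI : IsScalarTower Ap k K := IsScalarTower.of_algebraMap_eq fun a => rfl
  haveI : IsScalarTower A k K := IsScalarTower.of_algebraMap_eq fun a => by
    rw [IsScalarTower.algebraMap_apply A Ap k, ← IsScalarTower.algebraMap_apply Ap k K,
      ← IsScalarTower.algebraMap_apply A Ap K]
  let v' : ↥b → Ap ⊗[A] M := fun x => 1 ⊗ₜ v x
  let φ : k ⊗[Ap] (Ap ⊗[A] M) →ₗ[k] K ⊗[A] M :=
    (TensorProduct.AlgebraTensorModule.map (Algebra.linearMap k K) (LinearMap.id : M →ₗ[A] M)).comp
      (TensorProduct.AlgebraTensorModule.cancelBaseChange A Ap k k M).toLinearMap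
  have hk : LinearIndependent k (TensorProduct.mk Ap k (Ap ⊗[A] M) 1 ∘ v') := by
    refine LinearIndependent.of_comp φ ?_
    have : φ ∘ (TensorProduct.mk Ap k (Ap ⊗[A] M) 1 ∘ v') = ((↑) : ↥b → K ⊗[A] M) := by
      funext x
      rw [← hv x]
      simp [φ, v', mkK]
    rw [this]
    exact hbli.restrict_scalars' k
  have hAp : LinearIndependent Ap v' := Module.IsLocalRing.linearIndependent_of_flat v' hk
  have hA : LinearIndependent A v := by
    refine LinearIndependent.of_comp (TensorProduct.mk A Ap M 1) ?_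
    refine hAp.restrict_scalars ?_
    intro a a' h
    simp only [smul_eq_mul, Algebra.smul_def, mul_one] at h
    exact IsLocalization.injective Ap p.primeCompl_le_nonZeroDivisors h
  haveI : Module.Flat A L := by
    let F := FractionRing A
    letI : Algebra F L := FractionRing.liftAlgebra A L
    haveI : IsScalarTower A F L := inferInstance
    haveI : Module.Flat A F := IsLocalization.flat F (nonZeroDivisors A)
    exact Module.Flat.trans A F L
  have hL : LinearIndependent L fun x => (1 : L) ⊗ₜ[A] v x := by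
    exact Module.Flat.linearIndependent_one_tmul hA
  haveI : Finite ↥b := hL.finite
  haveI := Fintype.ofFinite ↥b
  rw [Nat.card_eq_fintype_card]
  exact hL.fintype_card_le_finrank

variable {X Y W V : Scheme.{u}}

/-- A fibre lying in an open subscheme is the fibre of that open subscheme. -/
theorem exists_pullback_iso {K : Scheme.{u}} (f : X ⟶ Y) (t : K ⟶ Y) (j : W ⟶ X) [IsOpenImmersion j]
    (i : V ⟶ Y) [Mono i] (g : W ⟶ V) (t' : K ⟶ V) (hg : g ≫ i = j ≫ f) (ht : t' ≫ i = t)
    (h : Set.range (pullback.fst f t) ⊆ Set.range j) :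
    ∃ e : pullback g t' ≅ pullback f t, e.hom ≫ pullback.snd f t = pullback.snd g t' := by
  let l : pullback f t ⟶ W := IsOpenImmersion.lift j (pullback.fst f t) h
  have hl : l ≫ j = pullback.fst f t := IsOpenImmersion.lift_fac _ _ _
  refine ⟨⟨pullback.lift (pullback.fst g t' ≫ j) (pullback.snd g t') (by
      rw [Category.assoc, ← hg, pullback.condition_assoc, ht]),
    pullback.lift l (pullback.snd f t) (by
      rw [← cancel_mono i, Category.assoc, hg, reassoc_of% hl, pullback.condition, Category.assoc, ht]),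
    ?_, ?_⟩, pullback.lift_snd _ _ _⟩
  · refine pullback.hom_ext ?_ ?_
    · rw [← cancel_mono j, Category.id_comp, Category.assoc, Category.assoc, pullback.lift_fst_assoc, hl,
        pullback.lift_fst]
    · rw [Category.assoc, pullback.lift_snd, pullback.lift_snd, Category.id_comp]
  · refine pullback.hom_ext ?_ ?_
    · rw [Category.assoc, pullback.lift_fst, pullback.lift_fst_assoc, Category.id_comp, hl]
    · rw [Category.assoc, pullback.lift_snd, pullback.lift_snd, Category.id_comp]

/-- The algebra of functions of a fibre of an affine scheme over a field valued point. -/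
theorem nonempty_equiv_appTop (g : W ⟶ V) [IsAffine W] [IsAffine V] (K : Type u) [Field K]
    (t : Spec (CommRingCat.of K) ⟶ V) :
    (letI := ((Scheme.ΓSpecIso (CommRingCat.of K)).inv ≫ (pullback.snd g t).appTop).hom.toAlgebra
     letI := g.appTop.hom.toAlgebra
     letI := (t.appTop ≫ (Scheme.ΓSpecIso (CommRingCat.of K)).hom).hom.toAlgebra
     Nonempty ((K ⊗[Γ(V, ⊤)] Γ(W, ⊤)) ≃ₗ[K] Γ(pullback g t, ⊤))) := by
  let φ : CommRingCat.of K ⟶ Γ(pullback g t, ⊤) :=
    (Scheme.ΓSpecIso (CommRingCat.of K)).inv ≫ (pullback.snd g t).appTop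
  letI aK := φ.hom.toAlgebra
  letI aW := g.appTop.hom.toAlgebra
  letI aVK := (t.appTop ≫ (Scheme.ΓSpecIso (CommRingCat.of K)).hom).hom.toAlgebra
  letI aVP : Algebra Γ(V, ⊤) Γ(pullback g t, ⊤) := (g.appTop ≫ (pullback.fst g t).appTop).hom.toAlgebra
  letI aWP := (pullback.fst g t).appTop.hom.toAlgebra
  haveI : IsScalarTower Γ(V, ⊤) Γ(W, ⊤) Γ(pullback g t, ⊤) := IsScalarTower.of_algebraMap_eq fun _ => rfl
  have hsq : (t.appTop ≫ (Scheme.ΓSpecIso (CommRingCat.of K)).hom) ≫ φ = g.appTop ≫ (pullback.fst g t).appTop := by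
    simp only [φ, Category.assoc, Iso.hom_inv_id_assoc, ← Scheme.Hom.comp_appTop, pullback.condition]
  haveI : IsScalarTower Γ(V, ⊤) K Γ(pullback g t, ⊤) := IsScalarTower.of_algebraMap_eq fun a => by
    exact (congr($(hsq) a)).symm
  have hpo : IsPushout (t.appTop ≫ (Scheme.ΓSpecIso (CommRingCat.of K)).hom) g.appTop φ (pullback.fst g t).appTop :=
    (isPushout_appTop_of_isPullback (IsPullback.of_hasPullback g t)).flip.of_iso (Iso.refl _)
      (Scheme.ΓSpecIso (CommRingCat.of K)) (Iso.refl _) (Iso.refl _) (by simp) (by simp) (by simp [φ]) (by simp)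
  haveI : Algebra.IsPushout Γ(V, ⊤) K Γ(W, ⊤) Γ(pullback g t, ⊤) := CommRingCat.isPushout_iff_isPushout.1 hpo
  exact ⟨(Algebra.IsPushout.equiv Γ(V, ⊤) K Γ(W, ⊤) Γ(pullback g t, ⊤)).toLinearEquiv⟩

theorem finrank_appTop_eq (g : W ⟶ V) [IsAffine W] [IsAffine V] (K : Type u) [Field K]
    (t : Spec (CommRingCat.of K) ⟶ V) :
    (letI := ((Scheme.ΓSpecIso (CommRingCat.of K)).inv ≫ (pullback.snd g t).appTop).hom.toAlgebra
     letI := g.appTop.hom.toAlgebra
     letI := (t.appTop ≫ (Scheme.ΓSpecIso (CommRingCat.of K)).hom).hom.toAlgebra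
     Module.finrank K Γ(pullback g t, ⊤) = Module.finrank K (K ⊗[Γ(V, ⊤)] Γ(W, ⊤))) := by
  letI := ((Scheme.ΓSpecIso (CommRingCat.of K)).inv ≫ (pullback.snd g t).appTop).hom.toAlgebra
  letI := g.appTop.hom.toAlgebra
  letI := (t.appTop ≫ (Scheme.ΓSpecIso (CommRingCat.of K)).hom).hom.toAlgebra
  obtain ⟨e⟩ := nonempty_equiv_appTop g K t
  exact e.finrank_eq.symm

end Groth.Agent.GenDeg7
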